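import Cfsg.Agent.KnownSimple.Multiplier.Sylow
import Cfsg.Agent.J2Mult70.Central

/-!
# Two-generated Sylow subgroups in central extensions (helper70)

Criteria killing the `p`-part of a Schur multiplier from an automiser of a Sylow subgroup of order
`p²` or `p³`, and the reduction of a stem extension to one with kernel of exponent two.
-/

set_option autoImplicit false

namespace Cfsg.Agent.PresMult70

open Subgroup
open scoped commutatorElement

universe u v

theorem conj_pow_scalar {Γ : Type u} [Group Γ] {x y t : Γ} (h : x * y * x⁻¹ = t * y)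
    (hty : Commute t y) (n : ℕ) : x * y ^ n * x⁻¹ = t ^ n * y ^ n := by
  rw [← conj_pow, h, hty.mul_pow]

theorem eq_one_of_pows {Γ : Type u} [Group Γ] {t : Γ} {p m : ℕ} (hp : p.Prime) (h1 : t ^ p = 1)
    (h2 : t ^ m = t) (hm : ¬ m ≡ 1 [MOD p]) : t = 1 := by
  by_contra hne
  have ho : orderOf t = p := by
    rcases (Nat.dvd_prime hp).mp (orderOf_dvd_of_pow_eq_one h1) with h | h
    · exact absurd (orderOf_eq_one_iff.mp h) hne
    · exact h
  refine hm ?_
  rw [← ho, ← pow_eq_pow_iff_modEq, pow_one]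
  exact h2

/-- Commutators inside a two-generated group whose basic commutator is central in it. -/
theorem commutator_mem {Γ : Type u} [Group Γ] {x y : Γ} (hx : Commute ⁅x, y⁆ x)
    (hy : Commute ⁅x, y⁆ y) {s t : Γ} (hs : s ∈ closure ({x, y} : Set Γ))
    (ht : t ∈ closure ({x, y} : Set Γ)) :
    Commute ⁅x, y⁆ s ∧ ⁅s, t⁆ ∈ zpowers ⁅x, y⁆ := by
  set c := ⁅x, y⁆ with hc
  have hcom : ∀ s ∈ closure ({x, y} : Set Γ), Commute c s := by
    intro s hs
    induction hs using closure_induction with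
    | mem z hz =>
      rcases hz with rfl | hz
      · exact hx
      · rw [Set.mem_singleton_iff.mp hz]; exact hy
    | one => exact Commute.one_right _
    | mul a b _ _ ha hb => exact ha.mul_right hb
    | inv a _ ha => exact ha.inv_right
  have hfix : ∀ w ∈ zpowers c, ∀ s ∈ closure ({x, y} : Set Γ), s * w * s⁻¹ = w := by
    intro w hw s hs
    obtain ⟨n, rfl⟩ := mem_zpowers_iff.mp hw
    rw [← ((hcom s hs).zpow_left n).eq]; group
  have hswap : ∀ a b : Γ, ⁅a, b⁆ ∈ zpowers c → ⁅b, a⁆ ∈ zpowers c := fun a b h => by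
    rw [← commutatorElement_inv]; exact inv_mem h
  have hgen : ∀ (g : Γ), g ∈ closure ({x, y} : Set Γ) →
      (⁅g, x⁆ ∈ zpowers c ∧ ⁅g, y⁆ ∈ zpowers c) →
      ∀ s ∈ closure ({x, y} : Set Γ), ⁅g, s⁆ ∈ zpowers c := by
    intro g hg hgxy s hs
    induction hs using closure_induction with
    | mem z hz =>
      rcases hz with rfl | hz
      · exact hgxy.1
      · rw [Set.mem_singleton_iff.mp hz]; exact hgxy.2
    | one => rw [commutatorElement_one_right]; exact one_mem _
    | mul a b ha _ iha ihb =>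
      rw [show ⁅g, a * b⁆ = ⁅g, a⁆ * (a * ⁅g, b⁆ * a⁻¹) by
        simp only [commutatorElement_def]; group, hfix _ ihb a ha]
      exact mul_mem iha ihb
    | inv a ha iha =>
      rw [show ⁅g, a⁻¹⁆ = a⁻¹ * ⁅g, a⁆⁻¹ * a⁻¹⁻¹ by simp only [commutatorElement_def]; group,
        hfix _ (inv_mem iha) _ (inv_mem ha)]
      exact inv_mem iha
  have hxm : x ∈ closure ({x, y} : Set Γ) := subset_closure (Or.inl rfl)
  have hym : y ∈ closure ({x, y} : Set Γ) := subset_closure (Or.inr rfl)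
  have h1 : ∀ s ∈ closure ({x, y} : Set Γ), ⁅x, s⁆ ∈ zpowers c :=
    hgen x hxm ⟨by rw [commutatorElement_self]; exact one_mem _, mem_zpowers _⟩
  have h2 : ∀ s ∈ closure ({x, y} : Set Γ), ⁅y, s⁆ ∈ zpowers c :=
    hgen y hym ⟨hswap _ _ (mem_zpowers _), by rw [commutatorElement_self]; exact one_mem _⟩
  exact ⟨hcom s hs, hgen s hs ⟨hswap _ _ (h1 s hs), hswap _ _ (h2 s hs)⟩ t ht⟩

/-- A two-generated group of this shape with generators of order `p` is a `p`-group. -/
theorem isPGroup_closure {G : Type v} [Group G] [Finite G] {p : ℕ} (hp : p.Prime) {u v : G}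
    (hu : u ^ p = 1) (hv : v ^ p = 1) (hcu : Commute ⁅u, v⁆ u) (hcv : Commute ⁅u, v⁆ v) :
    IsPGroup p (closure ({u, v} : Set G)) := by
  haveI := Fact.mk hp
  set c := ⁅u, v⁆ with hc
  have hcp : c ^ p = 1 := by
    have h := conj_pow_scalar (x := u) (y := v) (t := c)
      (by rw [hc, commutatorElement_def]; group) hcv p
    rw [hv, mul_one, mul_inv_cancel, mul_one] at h
    exact h.symm
  set S := closure ({u, v} : Set G) with hS
  let N : Subgroup S := (zpowers c).subgroupOf S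
  have hmemS : ∀ w ∈ zpowers c, w ∈ S := fun w hw => by
    refine (zpowers_le.mpr ?_) hw
    rw [hc, commutatorElement_def]
    exact mul_mem (mul_mem (mul_mem (subset_closure (Or.inl rfl)) (subset_closure (Or.inr rfl)))
      (inv_mem (subset_closure (Or.inl rfl)))) (inv_mem (subset_closure (Or.inr rfl)))
  have key : ∀ s ∈ S, s ^ p ∈ zpowers c := by
    intro s hs
    induction hs using closure_induction with
    | mem z hz =>
      rcases hz with rfl | hz
      · rw [hu]; exact one_mem _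
      · rw [Set.mem_singleton_iff.mp hz, hv]; exact one_mem _
    | one => rw [one_pow]; exact one_mem _
    | mul a b ha hb iha ihb =>
      have hab := (commutator_mem hcu hcv ha hb).2
      have hpow : ∀ n : ℕ, (a * b) ^ n * (b ^ n)⁻¹ * (a ^ n)⁻¹ ∈ zpowers c := by
        intro n
        induction n with
        | zero => simp
        | succ n ihn =>
          obtain ⟨m, hm⟩ := mem_zpowers_iff.mp ihn
          have e : (a * b) ^ n = c ^ m * (a ^ n * b ^ n) := by rw [hm]; group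
          obtain ⟨i, hi⟩ := mem_zpowers_iff.mp
            (commutator_mem hcu hcv (pow_mem hb n) ha).2
          have hca : ∀ (j : ℤ) (z : G), z ∈ S → Commute (c ^ j) z := fun j z hz =>
            ((commutator_mem hcu hcv hz hz).1).zpow_left j
          have hba : b ^ n * a = c ^ i * (a * b ^ n) := by
            rw [hi, commutatorElement_def]; group
          have : (a * b) ^ (n + 1) * (b ^ (n + 1))⁻¹ * (a ^ (n + 1))⁻¹ = c ^ m * c ^ i := by
            rw [pow_succ, e, show c ^ m * (a ^ n * b ^ n) * (a * b) =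
              c ^ m * (a ^ n * (b ^ n * a) * b) by group, hba,
              show a ^ n * (c ^ i * (a * b ^ n)) = (a ^ n * c ^ i) * (a * b ^ n) by group,
              ← (hca i _ (pow_mem ha n)).eq, pow_succ a, pow_succ b]
            group
          rw [this]
          exact mul_mem (zpow_mem (mem_zpowers _) _) (zpow_mem (mem_zpowers _) _)
      have e : (a * b) ^ p = (a * b) ^ p * (b ^ p)⁻¹ * (a ^ p)⁻¹ * a ^ p * b ^ p := by group
      rw [e]
      exact mul_mem (mul_mem (hpow p) iha) ihb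
    | inv a _ iha => rw [inv_pow]; exact inv_mem iha
  intro s
  refine ⟨2, Subtype.ext ?_⟩
  obtain ⟨m, hm⟩ := mem_zpowers_iff.mp (key s.1 s.2)
  rw [SubgroupClass.coe_pow, OneMemClass.coe_one, sq, pow_mul, ← hm, ← zpow_natCast, ← zpow_mul,
    mul_comm, zpow_mul, zpow_natCast, hcp, one_zpow]

/-- The criterion. -/
theorem local_criterion {Γ : Type u} [Group Γ] {G : Type v} [Group G] (σ : Γ →* G)
    (hc : σ.ker ≤ center Γ) {p : ℕ} (hp : p.Prime) {x y : Γ} (hxp : σ x ^ p = 1)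
    (hyp : σ y ^ p = 1) (hcx : Commute ⁅x, y⁆ x) (hcy : Commute ⁅x, y⁆ y)
    (htriv : σ ⁅x, y⁆ = 1 → ⁅x, y⁆ = 1) :
    σ.ker ⊓ ⁅(closure ({σ x, σ y} : Set G)).comap σ, (closure ({σ x, σ y} : Set G)).comap σ⁆
      = ⊥ := by
  set c := ⁅x, y⁆ with hcd
  have hcp : c ^ p = 1 := by
    have h := conj_pow_scalar (x := x) (y := y) (t := c)
      (by rw [hcd, commutatorElement_def]; group) hcy p
    have hy : σ (y ^ p) = 1 := by rw [map_pow]; exact hyp
    rw [← (J2Mult70.central_of σ hc hy x).eq, mul_assoc, mul_inv_cancel, mul_one] at h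
    exact (mul_eq_right.mp h.symm)
  have himg : (closure ({σ x, σ y} : Set G)) = (closure ({x, y} : Set Γ)).map σ := by
    rw [MonoidHom.map_closure, Set.image_pair]
  have hle : ⁅(closure ({σ x, σ y} : Set G)).comap σ, (closure ({σ x, σ y} : Set G)).comap σ⁆
      ≤ zpowers c := by
    rw [commutator_le]
    intro s hs t ht
    rw [himg, mem_comap, Subgroup.mem_map] at hs ht
    obtain ⟨s', hs', hs2⟩ := hs
    obtain ⟨t', ht', ht2⟩ := ht
    obtain ⟨i, hi, rfl⟩ := J2Mult70.exists_eq_mul σ hc (x := s) (y := s') hs2.symm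
    obtain ⟨j, hj, rfl⟩ := J2Mult70.exists_eq_mul σ hc (x := t) (y := t') ht2.symm
    rw [Cfsg.Agent.Schur.commutatorElement_mul_central (hc hi) (hc hj)]
    exact (commutator_mem hcx hcy hs' ht').2
  rw [eq_bot_iff]
  rintro z ⟨hz1, hz2⟩
  obtain ⟨n, hn⟩ := mem_zpowers_iff.mp (hle hz2)
  rw [mem_bot]
  by_cases h1 : c = 1
  · rw [← hn, h1, one_zpow]
  · have hnd : ¬ (p : ℤ) ∣ n → False := by
      intro hdv
      refine h1 (htriv ?_)
      have hk : σ c ^ n = 1 := by rw [← map_zpow, hn]; exact hz1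
      have h2 : σ c ^ (p : ℤ) = 1 := by rw [zpow_natCast, ← map_pow, hcp, map_one]
      obtain ⟨a, b, hab⟩ := (Int.isCoprime_iff_nat_coprime.mpr
        (show Nat.Coprime (Int.natAbs (p : ℤ)) n.natAbs by
          rw [Int.natAbs_natCast, hp.coprime_iff_not_dvd]
          exact fun h => hdv (Int.natCast_dvd.mpr h)))
      calc σ c = σ c ^ (a * (p : ℤ) + b * n) := by rw [hab, zpow_one]
        _ = 1 := by rw [zpow_add, mul_comm a, mul_comm b, zpow_mul, zpow_mul, h2, hk, one_zpow,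
            one_zpow, one_mul]
    obtain ⟨m, rfl⟩ := not_not.mp hnd
    rw [← hn, zpow_mul, zpow_natCast, hcp, one_zpow]

/-- The witness data for a Sylow subgroup of order `p³`. -/
theorem criterion_extraspecial {Γ : Type u} [Group Γ] {G : Type v} [Group G] [Finite G]
    (σ : Γ →* G) (hσ : Function.Surjective σ) (hc : σ.ker ≤ center Γ) {p a b : ℕ} (hp : p.Prime)
    {u v h : G} (hu : u ^ p = 1) (hv : v ^ p = 1) (hne : ⁅u, v⁆ ≠ 1) (hwu : Commute ⁅u, v⁆ u)
    (hwv : Commute ⁅u, v⁆ v) (hhu : h * u * h⁻¹ = u ^ a) (hhv : h * v * h⁻¹ = v ^ b)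
    (hhw : Commute h ⁅u, v⁆) (ha : ¬ a ≡ 1 [MOD p]) (hb : ¬ b ≡ 1 [MOD p])
    (hG : ¬ p ^ 4 ∣ Nat.card G) :
    ∃ S : Subgroup G, ¬ p ∣ S.index ∧ σ.ker ⊓ ⁅S.comap σ, S.comap σ⁆ = ⊥ := by
  obtain ⟨x, rfl⟩ := hσ u
  obtain ⟨y, rfl⟩ := hσ v
  obtain ⟨g, rfl⟩ := hσ h
  haveI := Fact.mk hp
  set c := ⁅x, y⁆ with hcd
  have hσc : σ c = ⁅σ x, σ y⁆ := map_commutatorElement σ x y
  have key : ∀ (z : Γ) (m : ℕ), σ z ^ p = 1 → Commute (σ c) (σ z) →
      σ g * σ z * (σ g)⁻¹ = σ z ^ m → ¬ m ≡ 1 [MOD p] → Commute c z := by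
    intro z m hzp hcz hgz hm
    obtain ⟨t, ht, hct⟩ : ∃ t, σ t = 1 ∧ c * z * c⁻¹ = t * z :=
      ⟨c * z * c⁻¹ * z⁻¹, by simp [hcz.eq], by group⟩
    have htc : ∀ w, Commute t w := J2Mult70.central_of σ hc ht
    have htp : t ^ p = 1 := by
      have h := conj_pow_scalar hct (htc z) p
      have hz : σ (z ^ p) = 1 := by rw [map_pow]; exact hzp
      rw [← (J2Mult70.central_of σ hc hz c).eq, mul_assoc, mul_inv_cancel, mul_one] at h
      exact mul_eq_right.mp h.symm
    obtain ⟨j, hj, hgc⟩ := J2Mult70.exists_eq_mul σ hc (x := g * c * g⁻¹) (y := c)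
      (by rw [map_mul, map_mul, map_inv, hσc, hhw.eq]; group)
    obtain ⟨i, hi, hgz'⟩ := J2Mult70.exists_eq_mul σ hc (x := g * z * g⁻¹) (y := z ^ m)
      (by rw [map_mul, map_mul, map_inv, map_pow, hgz])
    have e1 : g * (c * z * c⁻¹) * g⁻¹ = t * (z ^ m * i) := by
      rw [hct, show g * (t * z) * g⁻¹ = (g * t * g⁻¹) * (g * z * g⁻¹) by group, hgz',
        ← (htc g).eq]
      group
    have e2 : g * (c * z * c⁻¹) * g⁻¹ = t ^ m * (z ^ m * i) := by
      rw [show g * (c * z * c⁻¹) * g⁻¹ = (g * c * g⁻¹) * (g * z * g⁻¹) * (g * c * g⁻¹)⁻¹ by group,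
        hgc, hgz']
      calc c * j * (z ^ m * i) * (c * j)⁻¹
          = c * (j * (z ^ m * i) * j⁻¹) * c⁻¹ := by group
        _ = c * (z ^ m * i) * c⁻¹ := by rw [(J2Mult70.central_of σ hc hj _).eq]; group
        _ = c * z ^ m * c⁻¹ * (c * i * c⁻¹) := by group
        _ = t ^ m * z ^ m * i := by
            rw [conj_pow_scalar hct (htc z) m, ← (J2Mult70.central_of σ hc hi c).eq]; group
        _ = t ^ m * (z ^ m * i) := by group
    have ht1 := eq_one_of_pows hp htp (mul_right_cancel (e2.symm.trans e1)) hm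
    show c * z = z * c
    rw [ht1, one_mul] at hct
    exact mul_inv_eq_iff_eq_mul.mp hct
  have hcx : Commute c x := key x a hu (hσc ▸ hwu) hhu ha
  have hcy : Commute c y := key y b hv (hσc ▸ hwv) hhv hb
  refine ⟨closure {σ x, σ y}, ?_, local_criterion σ hc hp hu hv hcx hcy
    (fun h => absurd (hσc ▸ h) hne)⟩
  have hP := isPGroup_closure hp hu hv hwu hwv
  obtain ⟨P, hle⟩ := hP.exists_le_sylow
  obtain ⟨n, hn⟩ := P.2.exists_card_eq
  obtain ⟨k, hk⟩ := hP.exists_card_eq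
  have hk3 : 3 ≤ k := by
    by_contra hlt
    refine hne (commutatorElement_eq_one_iff_mul_comm.mpr ?_)
    have hx : σ x ∈ closure ({σ x, σ y} : Set G) := subset_closure (Or.inl rfl)
    have hy : σ y ∈ closure ({σ x, σ y} : Set G) := subset_closure (Or.inr rfl)
    have hcomm : ∀ s t : closure ({σ x, σ y} : Set G), s * t = t * s := by
      rcases show k = 0 ∨ k = 1 ∨ k = 2 by omega with rfl | rfl | rfl
      · haveI := (Nat.card_eq_one_iff_unique.mp (hk.trans (pow_zero p))).1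
        exact fun s t => Subsingleton.elim _ _
      · haveI := isCyclic_of_prime_card (hk.trans (pow_one p))
        letI := IsCyclic.commGroup (α := closure ({σ x, σ y} : Set G))
        exact fun s t => mul_comm s t
      · exact IsPGroup.commutative_of_card_eq_prime_sq hk
    exact congrArg Subtype.val (hcomm ⟨_, hx⟩ ⟨_, hy⟩)
  have hn3 : n ≤ 3 := by
    by_contra hlt
    exact hG ((pow_dvd_pow p (by omega : 4 ≤ n)).trans (hn ▸ card_subgroup_dvd_card _))
  have hkn : k ≤ n := (Nat.pow_le_pow_iff_right hp.one_lt).mp (hk ▸ hn ▸ card_le_of_le hle)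
  have heq : closure ({σ x, σ y} : Set G) = (P : Subgroup G) :=
    eq_of_le_of_card_ge hle (by rw [hk, hn]; exact Nat.pow_le_pow_right hp.pos (by omega))
  rw [heq]
  exact P.not_dvd_index

/-- The witness data for a Sylow subgroup of order `p²`. -/
theorem criterion_abelian {Γ : Type u} [Group Γ] {G : Type v} [Group G] [Finite G]
    (σ : Γ →* G) (hσ : Function.Surjective σ) (hc : σ.ker ≤ center Γ) {p a b : ℕ} (hp : p.Prime)
    {u v h : G} (hu : u ^ p = 1) (hv : v ^ p = 1) (hu1 : u ≠ 1) (huv : Commute u v)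
    (hindep : ∀ i < p, v ≠ u ^ i) (hhu : h * u * h⁻¹ = u ^ a) (hhv : h * v * h⁻¹ = v ^ b)
    (hab : ¬ a * b ≡ 1 [MOD p]) (hG : ¬ p ^ 3 ∣ Nat.card G) :
    ∃ S : Subgroup G, ¬ p ∣ S.index ∧ σ.ker ⊓ ⁅S.comap σ, S.comap σ⁆ = ⊥ := by
  obtain ⟨x, rfl⟩ := hσ u
  obtain ⟨y, rfl⟩ := hσ v
  obtain ⟨g, rfl⟩ := hσ h
  haveI := Fact.mk hp
  set c := ⁅x, y⁆ with hcd
  have hσc : σ c = 1 := by rw [hcd, map_commutatorElement]; exact huv.commutator_eq
  have hcc : ∀ w, Commute c w := J2Mult70.central_of σ hc hσc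
  have hct : x * y * x⁻¹ = c * y := by rw [hcd, commutatorElement_def]; group
  have hcp : c ^ p = 1 := by
    have h := conj_pow_scalar hct (hcc y) p
    have hy : σ (y ^ p) = 1 := by rw [map_pow]; exact hv
    rw [← (J2Mult70.central_of σ hc hy x).eq, mul_assoc, mul_inv_cancel, mul_one] at h
    exact mul_eq_right.mp h.symm
  obtain ⟨i, hi, hgx⟩ := J2Mult70.exists_eq_mul σ hc (x := g * x * g⁻¹) (y := x ^ a)
    (by rw [map_mul, map_mul, map_inv, map_pow, hhu])
  obtain ⟨j, hj, hgy⟩ := J2Mult70.exists_eq_mul σ hc (x := g * y * g⁻¹) (y := y ^ b)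
    (by rw [map_mul, map_mul, map_inv, map_pow, hhv])
  have hpowa : ∀ n : ℕ, x ^ n * y * (x ^ n)⁻¹ = c ^ n * y := by
    intro n
    induction n with
    | zero => simp
    | succ n ih =>
      rw [pow_succ', show x * x ^ n * y * (x * x ^ n)⁻¹ = x * (x ^ n * y * (x ^ n)⁻¹) * x⁻¹ by group,
        ih, show x * (c ^ n * y) * x⁻¹ = (x * c ^ n * x⁻¹) * (x * y * x⁻¹) by group, hct,
        ← ((hcc x).pow_left n).eq, pow_succ]
      group
  have hcab : c ^ (a * b) = c := by
    have e1 : ⁅g * x * g⁻¹, g * y * g⁻¹⁆ = c := by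
      calc ⁅g * x * g⁻¹, g * y * g⁻¹⁆ = g * c * g⁻¹ := by
            rw [hcd, commutatorElement_def, commutatorElement_def]; group
        _ = c := by rw [← (hcc g).eq]; group
    rw [hgx, hgy, Cfsg.Agent.Schur.commutatorElement_mul_central (hc hi) (hc hj),
      commutatorElement_def, conj_pow_scalar (hpowa a) ((hcc y).pow_left a) b] at e1
    rw [pow_mul]
    calc (c ^ a) ^ b = (c ^ a) ^ b * y ^ b * (y ^ b)⁻¹ := by group
      _ = c := e1
  have hc1 := eq_one_of_pows hp hcp hcab hab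
  refine ⟨closure {σ x, σ y}, ?_, local_criterion σ hc hp hu hv (hcc x) (hcc y) (fun _ => hc1)⟩
  have hw : ⁅σ x, σ y⁆ = 1 := huv.commutator_eq
  have hP := isPGroup_closure hp hu hv (by rw [hw]; exact Commute.one_left _)
    (by rw [hw]; exact Commute.one_left _)
  obtain ⟨P, hle⟩ := hP.exists_le_sylow
  obtain ⟨n, hn⟩ := P.2.exists_card_eq
  obtain ⟨k, hk⟩ := hP.exists_card_eq
  have hox : orderOf (σ x) = p := orderOf_eq_prime hu hu1
  have hxle : zpowers (σ x) ≤ closure ({σ x, σ y} : Set G) :=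
    zpowers_le.mpr (subset_closure (Or.inl rfl))
  have hk2 : 2 ≤ k := by
    by_contra hlt
    have heq : zpowers (σ x) = closure ({σ x, σ y} : Set G) :=
      eq_of_le_of_card_ge hxle (by
        rw [hk, Nat.card_zpowers, hox]
        calc p ^ k ≤ p ^ 1 := Nat.pow_le_pow_right hp.pos (by omega)
          _ = p := pow_one p)
    have hy : σ y ∈ zpowers (σ x) := heq ▸ subset_closure (Or.inr rfl)
    obtain ⟨m, hm⟩ := mem_zpowers_iff.mp hy
    refine hindep (m % (p : ℤ)).toNat ?_ ?_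
    · have hpz : (0 : ℤ) < (p : ℤ) := by exact_mod_cast hp.pos
      have := Int.emod_lt_of_pos m hpz
      have := Int.emod_nonneg m hpz.ne'
      omega
    · rw [← zpow_natCast, Int.toNat_of_nonneg (Int.emod_nonneg _ (by exact_mod_cast hp.ne_zero)),
        ← hox, zpow_mod_orderOf, hm]
  have hn2 : n ≤ 2 := by
    by_contra hlt
    exact hG ((pow_dvd_pow p (by omega : 3 ≤ n)).trans (hn ▸ card_subgroup_dvd_card _))
  have heq : closure ({σ x, σ y} : Set G) = (P : Subgroup G) :=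
    eq_of_le_of_card_ge hle (by rw [hk, hn]; exact Nat.pow_le_pow_right hp.pos (by omega))
  rw [heq]
  exact P.not_dvd_index

/-- A stem extension is an isomorphism if the odd primes are killed locally and no stem extension
with kernel of exponent two exists. -/
theorem ker_eq_bot {G : Type v} [Group G] {Γ : Type u} [Group Γ] [Finite Γ] (σ : Γ →* G)
    (hσ : Cfsg.IsStemExtension σ)
    (hodd : ∀ ℓ : ℕ, ℓ.Prime → ℓ ≠ 2 →
      ∃ S : Subgroup G, ¬ ℓ ∣ S.index ∧ σ.ker ⊓ ⁅S.comap σ, S.comap σ⁆ = ⊥)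
    (htwo : ∀ (E : Type u) [Group E] [Finite E] (τ : E →* G), Cfsg.IsStemExtension τ →
      (∀ k ∈ τ.ker, k * k = 1) → τ.ker = ⊥) :
    σ.ker = ⊥ := by
  have hnoodd : ∀ z ∈ σ.ker, ∀ ℓ : ℕ, ℓ.Prime → ℓ ≠ 2 → orderOf z ≠ ℓ := by
    intro w hw ℓ hℓ h2 hord
    obtain ⟨S, hS, hSH⟩ := hodd ℓ hℓ h2
    have : (S.comap σ).FiniteIndex := inferInstance
    have hmem := Cfsg.Agent.Schur.pow_index_mem_commutator (S.comap σ) (hσ.2.1 hw) (hσ.2.2 hw)
    rw [Subgroup.map_subtype_commutator, Subgroup.index_comap_of_surjective S hσ.1] at hmem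
    have : w ^ S.index ∈ σ.ker ⊓ ⁅S.comap σ, S.comap σ⁆ := ⟨pow_mem hw _, hmem⟩
    rw [hSH, Subgroup.mem_bot] at this
    exact hS (hord ▸ orderOf_dvd_of_pow_eq_one this)
  have hcen : ∀ {k}, k ∈ σ.ker → ∀ w, Commute k w :=
    fun hk w => (Subgroup.mem_center_iff.mp (hσ.2.1 hk) w).symm
  let N : Subgroup Γ :=
    { carrier := {z | ∃ k ∈ σ.ker, k * k = z}
      one_mem' := ⟨1, one_mem _, mul_one 1⟩
      mul_mem' := by
        rintro _ _ ⟨k, hk, rfl⟩ ⟨j, hj, rfl⟩
        exact ⟨k * j, mul_mem hk hj, (hcen hj k).mul_mul_mul_comm k j⟩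
      inv_mem' := by
        rintro _ ⟨k, hk, rfl⟩
        exact ⟨k⁻¹, inv_mem hk, (mul_inv_rev k k).symm⟩ }
  have hNk : N ≤ σ.ker := by rintro _ ⟨k, hk, rfl⟩; exact mul_mem hk hk
  haveI hNn : N.Normal := ⟨fun n hn g => by
    rw [← (hcen (hNk hn) g).eq, mul_assoc, mul_inv_cancel, mul_one]; exact hn⟩
  let σ' : Γ ⧸ N →* G := QuotientGroup.lift N σ hNk
  have hmk : ∀ x : Γ, σ' (QuotientGroup.mk' N x) = σ x := fun x => rfl
  have hst : Cfsg.IsStemExtension σ' := by
    refine ⟨fun g => ?_, fun q hq => ?_, fun q hq => ?_⟩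
    · obtain ⟨x, hx⟩ := hσ.1 g; exact ⟨QuotientGroup.mk' N x, hx⟩
    · obtain ⟨x, rfl⟩ := QuotientGroup.mk'_surjective N q
      rw [MonoidHom.mem_ker, hmk] at hq
      rw [Subgroup.mem_center_iff]
      intro r
      obtain ⟨y, rfl⟩ := QuotientGroup.mk'_surjective N r
      rw [← map_mul, ← map_mul, (hcen hq y).eq]
    · obtain ⟨x, rfl⟩ := QuotientGroup.mk'_surjective N q
      rw [MonoidHom.mem_ker, hmk] at hq
      have := Subgroup.mem_map_of_mem (QuotientGroup.mk' N) (hσ.2.2 hq)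
      rw [commutator_def, Subgroup.map_commutator] at this
      exact Subgroup.commutator_mono le_top le_top this
  have hsq : ∀ k ∈ σ'.ker, k * k = 1 := by
    intro q hq
    obtain ⟨x, rfl⟩ := QuotientGroup.mk'_surjective N q
    rw [← map_mul, QuotientGroup.mk'_apply, QuotientGroup.eq_one_iff]
    exact ⟨x, hq, rfl⟩
  have hbot := htwo (Γ ⧸ N) σ' hst hsq
  have honto : ∀ z ∈ σ.ker, ∃ k ∈ σ.ker, k * k = z := by
    intro z hz
    have : QuotientGroup.mk' N z ∈ σ'.ker := hz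
    rw [hbot, Subgroup.mem_bot, QuotientGroup.mk'_apply, QuotientGroup.eq_one_iff] at this
    exact this
  have hbij : Function.Injective (fun k : σ.ker => k * k) :=
    Finite.injective_iff_surjective.mpr fun z => by
      obtain ⟨k, hk, e⟩ := honto z.1 z.2
      exact ⟨⟨k, hk⟩, Subtype.ext e⟩
  rw [Subgroup.eq_bot_iff_forall]
  intro z hz
  by_contra hne
  obtain ⟨ℓ, hℓ, hdvd⟩ := Nat.exists_prime_and_dvd (fun e => hne (orderOf_eq_one_iff.mp e))
  have hord : orderOf (z ^ (orderOf z / ℓ)) = ℓ :=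
    orderOf_pow_orderOf_div (orderOf_pos z).ne' hdvd
  have hmem : z ^ (orderOf z / ℓ) ∈ σ.ker := pow_mem hz _
  rcases eq_or_ne ℓ 2 with rfl | h2
  · set w := z ^ (orderOf z / 2)
    have hw : (⟨w, hmem⟩ : σ.ker) = 1 := hbij (Subtype.ext (by
      show w * w = 1 * 1
      rw [← sq, one_mul, ← hord, pow_orderOf_eq_one]))
    have : w = 1 := congrArg Subtype.val hw
    rw [this, orderOf_one] at hord
    exact absurd hord (by norm_num)
  · exact hnoodd _ hmem ℓ hℓ h2 hord

end Cfsg.Agent.PresMult70
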