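import Cfsg.Agent.J2Mult70.Central
import Cfsg.Prelude.Def_KGroupFacts

/-!
# Central extensions with kernel of exponent two (helper70)

Squares and commutation of lifts depend only on the images.
-/

set_option autoImplicit false

namespace Cfsg.Agent.PresMult70

open scoped commutatorElement

universe u v
variable {E : Type u} [Group E] {H : Type v} [Group H] (σ : E →* H) (hc : σ.ker ≤ Subgroup.center E)

include hc

theorem central_move {z : E} (hz : σ z = 1) (p q : E) : p * z * q = z * (p * q) := by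
  rw [← (J2Mult70.central_of σ hc hz p).eq, mul_assoc]

theorem commute_of_eq {x y x' y' : E} (hx : σ x' = σ x) (hy : σ y' = σ y) (h : Commute x y) :
    Commute x' y' := by
  obtain ⟨i, hi, rfl⟩ := J2Mult70.exists_eq_mul σ hc hx
  obtain ⟨j, hj, rfl⟩ := J2Mult70.exists_eq_mul σ hc hy
  exact Commute.mul_left (h.mul_right (J2Mult70.central_of σ hc hj x).symm)
    (J2Mult70.central_of σ hc hi _)

/-- Commutation is invariant under conjugation. -/
theorem commute_conj {x y x' y' w : E} (h : Commute x y) (hx : σ x' = σ (w * x * w⁻¹))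
    (hy : σ y' = σ (w * y * w⁻¹)) : Commute x' y' := by
  refine commute_of_eq σ hc hx hy ?_
  show w * x * w⁻¹ * (w * y * w⁻¹) = w * y * w⁻¹ * (w * x * w⁻¹)
  rw [show w * x * w⁻¹ * (w * y * w⁻¹) = w * (x * y) * w⁻¹ by group, h.eq]
  group

variable (h2 : ∀ k, σ k = 1 → k * k = 1)
include h2

theorem sq_mul_ker {k : E} (hk : σ k = 1) (x : E) : x * k * (x * k) = x * x := by
  rw [(J2Mult70.central_of σ hc hk x).mul_mul_mul_comm x k, h2 k hk, mul_one]

theorem sq_eq {x y : E} (h : σ x = σ y) : x * x = y * y := by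
  obtain ⟨k, hk, rfl⟩ := J2Mult70.exists_eq_mul σ hc h
  exact sq_mul_ker σ hc h2 hk y

/-- A lift of a conjugate has the same square, if this square is in the kernel. -/
theorem sq_conj {x y w : E} (h : σ y = σ (w * x * w⁻¹)) (hx : σ (x * x) = 1) : y * y = x * x := by
  rw [sq_eq σ hc h2 h, show w * x * w⁻¹ * (w * x * w⁻¹) = w * (x * x) * w⁻¹ by group,
    central_move σ hc hx]
  group

/-- An element commutes with the square of anything whose image commutes with its image. -/
theorem commute_sq {x y : E} (h : Commute (σ x) (σ y)) : Commute x (y * y) := by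
  obtain ⟨j, hj, he⟩ := J2Mult70.exists_eq_mul σ hc (x := x * y * x⁻¹) (y := y)
    (by rw [map_mul, map_mul, map_inv, h.eq]; group)
  have : x * (y * y) * x⁻¹ = y * y := by
    rw [show x * (y * y) * x⁻¹ = x * y * x⁻¹ * (x * y * x⁻¹) by group, he, sq_mul_ker σ hc h2 hj]
  exact mul_inv_eq_iff_eq_mul.mp this

theorem odd_pow {k : E} (hk : σ k = 1) (m : ℕ) : k ^ (2 * m + 1) = k := by
  rw [pow_succ, pow_mul, sq, h2 k hk, one_pow, one_mul]

theorem even_pow {k : E} (hk : σ k = 1) (m : ℕ) : k ^ (2 * m) = 1 := by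
  rw [pow_mul, sq, h2 k hk, one_pow]

/-- Multiplying by a suitable element of the kernel makes an odd order relation exact. -/
theorem mul_pow_odd {k x : E} (hk : σ k = 1) (m : ℕ) :
    (x * k) ^ (2 * m + 1) = x ^ (2 * m + 1) * k := by
  rw [J2Mult70.central_pow_mul σ hc hk, odd_pow σ hc h2 hk]

omit hc h2

/-- A stem extension admitting a section is an isomorphism. -/
theorem ker_eq_bot_of_section (hσ : Cfsg.IsStemExtension σ) (φ : H →* E) (hs : ∀ g, σ (φ g) = g) :
    σ.ker = ⊥ := by
  obtain ⟨-, hc, hder⟩ := hσ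
  have hle : commutator E ≤ φ.range := by
    rw [commutator_def, Subgroup.commutator_le]
    intro x _ y _
    obtain ⟨k, hk, hx⟩ := J2Mult70.exists_eq_mul σ hc (x := x) (y := φ (σ x)) (by rw [hs])
    obtain ⟨j, hj, hy⟩ := J2Mult70.exists_eq_mul σ hc (x := y) (y := φ (σ y)) (by rw [hs])
    refine ⟨⁅σ x, σ y⁆, ?_⟩
    rw [map_commutatorElement]
    conv_rhs => rw [hx, hy]
    exact (Cfsg.Agent.Schur.commutatorElement_mul_central (hc hk) (hc hj) _ _).symm
  rw [Subgroup.eq_bot_iff_forall]
  intro k hk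
  obtain ⟨g, rfl⟩ := hle (hder hk)
  rw [MonoidHom.mem_ker, hs] at hk
  rw [hk, map_one]

end Cfsg.Agent.PresMult70
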